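import Mathlib
import Cfsg.Agent.Lib.Helper60.NseM11.Defs

/-!
# S3592 (NseM11), package [CENT]

An element of order `11` centralizes every normal subgroup of order dividing `144`.
-/

set_option autoImplicit false

namespace Cfsg.Agent.Lib.Helper80.NseM11

open Cfsg.Agent.Lib.Helper60.NseM11

open scoped Pointwise

universe u

/-- Fixed-point congruence for the conjugation by an element `q` with `q ^ p = 1` on a finite
`q`-invariant set (same proof as `Cfsg.Agent.Lib.Helper20.M11U.conj_card_modEq`). -/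
theorem nse_conj_card_modEq {K : Type u} [Group K] (p : ℕ) [Fact p.Prime] (q : K)
    (hq : q ^ p = 1) (S : Set K) (hfin : S.Finite) (hS : ∀ x ∈ S, q * x * q⁻¹ ∈ S) :
    S.ncard ≡ {x ∈ S | q * x = x * q}.ncard [MOD p] := by
  classical
  have : Fintype S := hfin.fintype
  let f : Function.End S := fun x => ⟨q * x.1 * q⁻¹, hS x.1 x.2⟩
  have hpow : ∀ k : ℕ, ∀ x : S, ((f ^ k) x : K) = q ^ k * x.1 * (q ^ k)⁻¹ := by
    intro k
    induction k with
    | zero => intro x; rw [pow_zero]; simp; rfl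
    | succ k ih =>
      intro x
      rw [pow_succ']
      show q * ((f ^ k) x : K) * q⁻¹ = _
      rw [ih x, pow_succ']
      group
  have hf : f ^ p ^ 1 = 1 := by
    rw [pow_one]
    funext x
    apply Subtype.ext
    show ((f ^ p) x : K) = x.1
    rw [hpow, hq]
    simp
  have h := Equiv.Perm.card_fixedPoints_modEq (α := S) hf
  have h1 : Fintype.card S = S.ncard := by
    rw [← Nat.card_eq_fintype_card, Nat.card_coe_set_eq]
  have h2 : Fintype.card (Function.fixedPoints f) = {x ∈ S | q * x = x * q}.ncard := by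
    rw [← Nat.card_eq_fintype_card, Nat.card_coe_set_eq]
    have himg : {x ∈ S | q * x = x * q} = Subtype.val '' (Function.fixedPoints f) := by
      ext x
      constructor
      · rintro ⟨hx, hxq⟩
        refine ⟨⟨x, hx⟩, ?_, rfl⟩
        show f ⟨x, hx⟩ = ⟨x, hx⟩
        apply Subtype.ext
        show q * x * q⁻¹ = x
        rw [hxq]; group
      · rintro ⟨y, hy, rfl⟩
        refine ⟨y.2, ?_⟩
        have h4 : (f y : K) = y.1 := congrArg Subtype.val hy
        have h3 : q * y.1 * q⁻¹ = y.1 := h4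
        calc q * y.1 = q * y.1 * q⁻¹ * q := by group
          _ = y.1 * q := by rw [h3]
    rw [himg, Set.ncard_image_of_injective _ Subtype.val_injective]
  rw [h1, h2] at h
  exact h

theorem nse_arith (s c : ℕ) (hs : s ∣ 16 ∨ s ∣ 9) (hc : c ∣ s) (hmod : s ≡ c [MOD 11]) :
    c = s := by
  unfold Nat.ModEq at hmod
  rcases hs with hs | hs
  · have h1 : s ≤ 16 := Nat.le_of_dvd (by norm_num) hs
    have h0 : 0 < s := Nat.pos_of_dvd_of_pos hs (by norm_num)
    have h2 : c ≤ s := Nat.le_of_dvd h0 hc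
    have h3 : 0 < c := Nat.pos_of_dvd_of_pos hc h0
    interval_cases s <;> interval_cases c <;> omega
  · have h1 : s ≤ 9 := Nat.le_of_dvd (by norm_num) hs
    have h0 : 0 < s := Nat.pos_of_dvd_of_pos hs (by norm_num)
    have h2 : c ≤ s := Nat.le_of_dvd h0 hc
    have h3 : 0 < c := Nat.pos_of_dvd_of_pos hc h0
    interval_cases s <;> interval_cases c <;> omega

/-- A subgroup of order dividing `16` or `9` normalized by `x` with `x ^ 11 = 1` is centralized
by `x`. -/
theorem nse_centralize {G : Type u} [Group G] [Finite G] (S : Subgroup G) (x : G)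
    (hx : x ^ 11 = 1) (hnorm : ∀ y ∈ S, x * y * x⁻¹ ∈ S)
    (hcard : Nat.card S ∣ 16 ∨ Nat.card S ∣ 9) :
    ∀ y ∈ S, x * y = y * x := by
  have : Fact (Nat.Prime 11) := ⟨by norm_num⟩
  have hmod := nse_conj_card_modEq 11 x hx (S : Set G) (Set.toFinite _) hnorm
  let C : Subgroup G := S ⊓ Subgroup.centralizer {x}
  have hfix : {y ∈ (S : Set G) | x * y = y * x} = (C : Set G) := by
    ext y
    constructor
    · rintro ⟨h1, h2⟩
      exact Subgroup.mem_inf.mpr ⟨h1, Subgroup.mem_centralizer_singleton_iff.mpr h2.symm⟩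
    · intro h
      obtain ⟨h1, h2⟩ := Subgroup.mem_inf.mp h
      exact ⟨h1, (Subgroup.mem_centralizer_singleton_iff.mp h2).symm⟩
  rw [hfix] at hmod
  have h1 : (S : Set G).ncard = Nat.card S := by rw [← Nat.card_coe_set_eq]; rfl
  have h2 : (C : Set G).ncard = Nat.card C := by rw [← Nat.card_coe_set_eq]; rfl
  rw [h1, h2] at hmod
  have hCS : C ≤ S := inf_le_left
  have hdvd : Nat.card C ∣ Nat.card S := Subgroup.card_dvd_of_le hCS
  have heq := nse_arith _ _ hcard hdvd hmod
  have hCeq : C = S := Subgroup.eq_of_le_of_card_ge hCS (by rw [heq])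
  intro y hy
  have h3 : y ∈ C := by rw [hCeq]; exact hy
  exact (Subgroup.mem_centralizer_singleton_iff.mp (Subgroup.mem_inf.mp h3).2).symm

/-- Some Sylow `p`-subgroup of `N` is normalized by `x`. -/
theorem nse_fixed_sylow {G : Type u} [Group G] [Finite G] (N : Subgroup G) [hN : N.Normal]
    (hcard : Nat.card N ∣ 144) (x : G) (hx : x ^ 11 = 1) (p : ℕ) [Fact p.Prime] :
    ∃ P : Sylow p N, ∀ n : N, n ∈ P →
      (⟨x * n * x⁻¹, hN.conj_mem n.1 n.2 x⟩ : N) ∈ P := by
  classical
  have : Fact (Nat.Prime 11) := ⟨by norm_num⟩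
  have : Fintype (Sylow p N) := Fintype.ofFinite _
  let g : MulAut N := MulAut.conjNormal x
  have hg : g ^ 11 = 1 := by
    show (MulAut.conjNormal x : MulAut N) ^ 11 = 1
    rw [← map_pow, hx, map_one]
  let σ : Equiv.Perm (Sylow p N) := MulAction.toPerm g
  have hσ : σ ^ 11 ^ 1 = 1 := by
    rw [pow_one]
    have h0 : σ = MulAction.toPermHom (MulAut N) (Sylow p N) g := rfl
    rw [h0, ← map_pow, hg, map_one]
  have hnd : ¬ 11 ∣ Fintype.card (Sylow p N) := by
    intro h
    rw [← Nat.card_eq_fintype_card] at h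
    obtain ⟨P⟩ : Nonempty (Sylow p N) := inferInstance
    have h1 : Nat.card (Sylow p N) ∣ (P : Subgroup N).index := Sylow.card_dvd_index P
    have h2 : (P : Subgroup N).index ∣ Nat.card N := Subgroup.index_dvd_card _
    have h3 : 11 ∣ 144 := h.trans (h1.trans (h2.trans hcard))
    omega
  obtain ⟨P, hP⟩ := Equiv.Perm.exists_fixed_point_of_prime hnd hσ
  refine ⟨P, ?_⟩
  intro n hn
  have h1 : g • n ∈ g • (P : Subgroup N) := Subgroup.smul_mem_pointwise_smul _ _ _ hn
  have h2 : g • P = P := hP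
  have h3 : g • (P : Subgroup N) = (P : Subgroup N) := by
    rw [← Sylow.pointwise_smul_def, h2]
  rw [h3] at h1
  have h4 : g • n = ⟨x * n * x⁻¹, hN.conj_mem n.1 n.2 x⟩ := by
    apply Subtype.ext
    show ((MulAut.conjNormal x : MulAut N) n : G) = x * n * x⁻¹
    rw [MulAut.conjNormal_apply]
  rw [h4] at h1
  exact h1

/-- [CENT] -/
theorem pkgCent : PkgCent.{u} := by
  intro G _ _ N hN hcard x hx n hn
  have hx11 : x ^ 11 = 1 := by rw [← hx]; exact pow_orderOf_eq_one x
  let D : Subgroup N := (Subgroup.centralizer {x}).subgroupOf N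
  have key : ∀ (p : ℕ) [Fact p.Prime], (p = 2 ∨ p = 3) → ¬ p ∣ D.index := by
    intro p _ hp
    obtain ⟨P, hP⟩ := nse_fixed_sylow N hcard x hx11 p
    let S : Subgroup G := (P : Subgroup N).map N.subtype
    have hSmem : ∀ y, y ∈ S ↔ ∃ h : y ∈ N, (⟨y, h⟩ : N) ∈ P := by
      intro y
      constructor
      · rintro ⟨m, hm, rfl⟩
        exact ⟨m.2, hm⟩
      · rintro ⟨h, hm⟩
        exact ⟨⟨y, h⟩, hm, rfl⟩
    have hnorm : ∀ y ∈ S, x * y * x⁻¹ ∈ S := by
      intro y hy
      obtain ⟨h, hm⟩ := (hSmem y).mp hy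
      exact (hSmem _).mpr ⟨_, hP ⟨y, h⟩ hm⟩
    have hScard : Nat.card S = Nat.card P :=
      Nat.card_congr
        ((P : Subgroup N).equivMapOfInjective N.subtype N.subtype_injective).toEquiv.symm
    have hPdvd : Nat.card P ∣ 144 :=
      (Subgroup.card_subgroup_dvd_card (P : Subgroup N)).trans hcard
    obtain ⟨k, hk⟩ := IsPGroup.exists_card_eq P.isPGroup'
    have hS16 : Nat.card S ∣ 16 ∨ Nat.card S ∣ 9 := by
      rw [hScard, hk]
      rw [hk] at hPdvd
      rcases hp with rfl | rfl
      · left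
        have h1 : 2 ^ k ∣ 16 * 9 := hPdvd
        exact Nat.Coprime.dvd_of_dvd_mul_right (Nat.Coprime.pow_left k (by norm_num)) h1
      · right
        have h1 : 3 ^ k ∣ 9 * 16 := hPdvd
        exact Nat.Coprime.dvd_of_dvd_mul_right (Nat.Coprime.pow_left k (by norm_num)) h1
    have hcen := nse_centralize S x hx11 hnorm hS16
    have hPD : (P : Subgroup N) ≤ D := by
      intro m hm
      rw [Subgroup.mem_subgroupOf, Subgroup.mem_centralizer_singleton_iff]
      have h5 : (m : G) ∈ S := (hSmem _).mpr ⟨m.2, hm⟩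
      exact (hcen _ h5).symm
    intro hdvd
    exact P.not_dvd_index (hdvd.trans (Subgroup.index_dvd_of_le hPD))
  have h2 := key 2 (Or.inl rfl)
  have h3 := key 3 (Or.inr rfl)
  have hD : D.index ∣ 144 := (Subgroup.index_dvd_card D).trans hcard
  have hD1 : D.index = 1 := by
    have hle : D.index ≤ 144 := Nat.le_of_dvd (by norm_num) hD
    generalize D.index = d at *
    interval_cases d <;> omega
  rw [Subgroup.index_eq_one] at hD1
  have hmem : (⟨n, hn⟩ : N) ∈ D := by rw [hD1]; trivial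
  rw [Subgroup.mem_subgroupOf, Subgroup.mem_centralizer_singleton_iff] at hmem
  exact hmem.symm

end Cfsg.Agent.Lib.Helper80.NseM11
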